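import Groth.Agent.ShriekTensor7.Iso

/-!
# `a ≅ Lf^*(-) ⊗^L a(O)` for a coproduct preserving right adjoint of `Rf_*`
-/

set_option linter.style.haveILetI false
set_option backward.isDefEq.respectTransparency false
set_option backward.isDefEq.respectTransparency.types false
set_option maxHeartbeats 1000000

universe u

open CategoryTheory CategoryTheory.Limits AlgebraicGeometry

attribute [local instance] HasDerivedCategory.standard

namespace Groth.Agent.ShriekTensor7

open Groth.Agent.KFlatLib Groth.Agent.PerfGen7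

/-- If the right adjoint of `Rf_*` commutes with coproducts it is `Lf^*(-) ⊗^L a(O)`. -/
theorem nonempty_rightAdjoint_iso {X Y : Scheme.{u}} [CompactSpace X] [QuasiSeparatedSpace X]
    [CompactSpace Y] [QuasiSeparatedSpace Y] (f : X ⟶ Y) [DCoh.HasRpush f]
    (hf : DCoh.RpushPreservesQCoh f) (a : DCoh.DQCoh Y ⥤ DCoh.DQCoh X)
    (adj : DCoh.RpushQ f hf ⊣ a) (hcop : ∀ J : Type u, PreservesColimitsOfShape (Discrete J) a)
    (O : DCoh.DQCoh Y) (hO : Nonempty (O.obj ≅ DCoh.inD Y (Coh.structureModule Y))) [DCoh.HasLpull f]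
    (E : CochainComplex X.Modules ℤ) (hE : Nonempty (DCoh.toD X E ≅ (a.obj O).obj))
    [DCoh.HasLTensorCx E] :
    Nonempty (a ⋙ ObjectProperty.ι _ ≅ ObjectProperty.ι _ ⋙ DCoh.Lpull f ⋙ DCoh.LTensorCx E) := by
  haveI : QuasiSeparated f := QuasiSeparated.of_quasiSeparatedSpace f
  haveI : QuasiCompact f := inferInstance
  have hEq : DCoh.IsQCohD (DerivedCategory.Q.obj E) :=
    isQCohD_of_iso hE.some.symm (a.obj O).property
  obtain ⟨θ, hθ⟩ := exists_theta f hf adj O hO E hE hEq
  obtain ⟨I, _, _, ⟨eI⟩⟩ := exists_kInjective_rep (DerivedCategory.Q.obj E)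
  obtain ⟨eH⟩ := nonempty_projH_iso_ltensor f I E eI.symm
  obtain ⟨_, _⟩ := exists_commShift_rightAdjoint f hf adj
  let η : ObjectProperty.ι (DCoh.IsQCohD (X := Y)) ⋙ projH f I ⟶ a ⋙ ObjectProperty.ι _ :=
    Functor.whiskerLeft (ObjectProperty.ι _) eH.hom ≫
      Functor.whiskerRight θ (ObjectProperty.ι _)
  have hη : ∀ n, IsIso (η.app (unitQ Y n)) := fun n => by
    haveI := hθ n
    show IsIso (eH.hom.app _ ≫ (ObjectProperty.ι _).map (θ.app (unitQ Y n)))
    infer_instance
  haveI : ∀ K, IsIso (η.app K) := fun K =>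
    isIso_eta f hf I a adj η hcop (ShriekSupp7.rpushGen_of_cop f hf adj hcop) hη K
  haveI := NatIso.isIso_of_isIso_app η
  exact ⟨(asIso η).symm ≪≫ Functor.isoWhiskerLeft (ObjectProperty.ι _) eH⟩

end Groth.Agent.ShriekTensor7
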