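import Groth.Agent.ShriekTensor7.Theta

/-!
# The comparison is invertible at the shifts of `O`
-/

set_option linter.style.haveILetI false
set_option backward.isDefEq.respectTransparency false
set_option backward.isDefEq.respectTransparency.types false
set_option maxHeartbeats 1000000

universe u

open CategoryTheory CategoryTheory.Limits AlgebraicGeometry

attribute [local instance] HasDerivedCategory.standard

namespace Groth.Agent.ShriekTensor7

open Groth.Agent.KFlatLib Groth.Agent.PerfGen7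

variable {X Y : Scheme.{u}}

section Shift

variable {C : Type (u+1)} [Category.{u} C] [Abelian C] [HasDerivedCategory.{u+1} C]

/-- Endofunctors of complexes isomorphic to a shift act on derived morphisms by shifting. -/
noncomputable def shiftConj (F : CochainComplex C ℤ ⥤ CochainComplex C ℤ) (m : ℤ)
    (e : F ≅ shiftFunctor (CochainComplex C ℤ) m) :
    F ⋙ DerivedCategory.Q ≅ DerivedCategory.Q ⋙ shiftFunctor (DerivedCategory C) m :=
  Functor.isoWhiskerRight e DerivedCategory.Q ≪≫ DerivedCategory.Q.commShiftIso m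

end Shift

section Mate

variable {C : Type*} [Category C] {D : Type*} [Category D] {L : C ⥤ D} {G : D ⥤ C}
  {F₁ : C ⥤ C} {F₂ : D ⥤ D}

/-- Mates, as natural transformations. -/
def mateNat (adj : L ⊣ G) (α : F₁ ⋙ L ≅ L ⋙ F₂) : G ⋙ F₁ ⟶ F₂ ⋙ G where
  app K := adj.homEquiv (F₁.obj (G.obj K)) (F₂.obj K) (α.hom.app (G.obj K) ≫ F₂.map (adj.counit.app K))
  naturality K K' φ := by
    simp only [Functor.comp_map]
    refine Eq.trans (adj.homEquiv_naturality_left _ _).symm
      (Eq.trans (congrArg _ ?_) (adj.homEquiv_naturality_right _ _))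
    have := α.hom.naturality (G.map φ)
    simp only [Functor.comp_map] at this
    rw [reassoc_of% this, Category.assoc, ← F₂.map_comp, ← F₂.map_comp, adj.counit_naturality]

end Mate

variable (f : X ⟶ Y) [DCoh.HasRpush f]

/-- `τ` at a K-flat complex, in terms of complexes. -/
theorem inv_projθ_comp_chi {R J : CochainComplex Y.Modules ℤ} (α : degZero (Coh.structureModule Y) ⟶ J)
    [QuasiIso α] (I : CochainComplex X.Modules ℤ) (a : R ⟶ (pushCxF f).obj I) (t : R ⟶ J)
    {P : CochainComplex Y.Modules ℤ} (hP : DCoh.IsKFlat P)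
    [IsIso ((projθ f I a).app (DerivedCategory.Q.obj P))]
    [IsIso (DerivedCategory.Q.map ((DCoh.tensorCx.map α).app P))]
    [IsIso (DerivedCategory.Q.map (projCx f R I a P))]
    [IsIso ((rpushUnit f).app ((DCoh.tensorCx.obj I).obj ((pullCx f).obj P)))] :
    inv ((projθ f I a).app (DerivedCategory.Q.obj P)) ≫ (chi α t).app (DerivedCategory.Q.obj P) =
      (DCoh.Rpush f).map ((kLiftε (kRespects_pullTensor f I)).app P) ≫
        inv ((rpushUnit f).app ((DCoh.tensorCx.obj I).obj ((pullCx f).obj P))) ≫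
        inv (DerivedCategory.Q.map (projCx f R I a P)) ≫
        DerivedCategory.Q.map ((DCoh.tensorCx.map t).app P) ≫
        inv (DerivedCategory.Q.map ((DCoh.tensorCx.map α).app P)) ≫
        DerivedCategory.Q.map ((unitTensorIso).hom.app P) := by
  have h1 := projθ_comp_ε f I a P
  rw [IsIso.inv_comp_eq, ← Category.assoc, h1, chi_app_Q α hP t, Category.assoc]
  refine congrArg ((kLiftε (kRespects_tensor R)).app P ≫ ·) ?_
  show _ = ((DerivedCategory.Q.map (projCx f R I a P) ≫ (rpushUnit f).app _) ≫ _)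
  rw [Category.assoc]
  erw [IsIso.hom_inv_id_assoc, IsIso.hom_inv_id_assoc]

/-- The comparison map for complexes, under functors isomorphic to shifts. -/
theorem push_conj_key {F₁ : CochainComplex Y.Modules ℤ ⥤ CochainComplex Y.Modules ℤ}
    {F₂ : CochainComplex X.Modules ℤ ⥤ CochainComplex X.Modules ℤ} {m : ℤ}
    (σ₁ : F₁ ⋙ DerivedCategory.Q ≅ DerivedCategory.Q ⋙ shiftFunctor (DCoh.D Y) m)
    (M : pushCxF f ⋙ F₁ ⟶ F₂ ⋙ pushCxF f)
    {I B : CochainComplex X.Modules ℤ} {R J S : CochainComplex Y.Modules ℤ}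
    (a : R ⟶ (pushCxF f).obj I) (t : R ⟶ J) (α : S ⟶ J)
    [IsIso ((rpushUnit f).app I)] [IsIso ((rpushUnit f).app B)]
    [IsIso ((rpushUnit f).app (F₂.obj I))] [IsIso ((rpushUnit f).app (F₂.obj B))]
    [IsIso (DerivedCategory.Q.map a)] [IsIso (DerivedCategory.Q.map α)]
    [IsIso (DerivedCategory.Q.map (M.app I))] [IsIso (DerivedCategory.Q.map (M.app B))]
    [IsIso (DerivedCategory.Q.map (F₁.map a))] [IsIso (DerivedCategory.Q.map (F₁.map α))]
    (h : B ⟶ I) :
    (DCoh.Rpush f).map (DerivedCategory.Q.map (F₂.map h)) ≫ inv ((rpushUnit f).app (F₂.obj I)) ≫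
        inv (DerivedCategory.Q.map (M.app I)) ≫ inv (DerivedCategory.Q.map (F₁.map a)) ≫
        DerivedCategory.Q.map (F₁.map t) ≫ inv (DerivedCategory.Q.map (F₁.map α)) =
      (inv ((rpushUnit f).app (F₂.obj B)) ≫ inv (DerivedCategory.Q.map (M.app B)) ≫
        σ₁.hom.app ((pushCxF f).obj B) ≫ ((rpushUnit f).app B)⟦m⟧') ≫
      ((DCoh.Rpush f).map (DerivedCategory.Q.map h) ≫ inv ((rpushUnit f).app I) ≫
        inv (DerivedCategory.Q.map a) ≫ DerivedCategory.Q.map t ≫ inv (DerivedCategory.Q.map α))⟦m⟧' ≫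
      σ₁.inv.app S := by
  have hch : (DCoh.Rpush f).map (DerivedCategory.Q.map h) ≫ inv ((rpushUnit f).app I) =
      inv ((rpushUnit f).app B) ≫ DerivedCategory.Q.map ((pushCxF f).map h) := by
    rw [IsIso.comp_inv_eq, Category.assoc, IsIso.eq_inv_comp]
    exact ((rpushUnit f).naturality h).symm
  have hu2 : (DCoh.Rpush f).map (DerivedCategory.Q.map (F₂.map h)) ≫ inv ((rpushUnit f).app (F₂.obj I)) =
      inv ((rpushUnit f).app (F₂.obj B)) ≫ DerivedCategory.Q.map ((pushCxF f).map (F₂.map h)) := by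
    rw [IsIso.comp_inv_eq, Category.assoc, IsIso.eq_inv_comp]
    exact ((rpushUnit f).naturality (F₂.map h)).symm
  have hM : DerivedCategory.Q.map ((pushCxF f).map (F₂.map h)) ≫ inv (DerivedCategory.Q.map (M.app I)) =
      inv (DerivedCategory.Q.map (M.app B)) ≫ DerivedCategory.Q.map (F₁.map ((pushCxF f).map h)) := by
    rw [IsIso.comp_inv_eq, Category.assoc, IsIso.eq_inv_comp, ← Functor.map_comp, ← Functor.map_comp]
    exact congrArg DerivedCategory.Q.map (M.naturality h).symm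
  have hs : ∀ {K K' : CochainComplex Y.Modules ℤ} (x : K ⟶ K'),
      σ₁.hom.app K ≫ (DerivedCategory.Q.map x)⟦m⟧' = DerivedCategory.Q.map (F₁.map x) ≫ σ₁.hom.app K' :=
    fun x => (σ₁.hom.naturality x).symm
  have hs' : ∀ {K K' : CochainComplex Y.Modules ℤ} (x : K ⟶ K') [IsIso (DerivedCategory.Q.map x)]
      [IsIso (DerivedCategory.Q.map (F₁.map x))],
      σ₁.hom.app K' ≫ inv ((DerivedCategory.Q.map x)⟦m⟧') =
        inv (DerivedCategory.Q.map (F₁.map x)) ≫ σ₁.hom.app K := by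
    intro K K' x _ _
    rw [IsIso.comp_inv_eq, Category.assoc, IsIso.eq_inv_comp]
    exact (hs x).symm
  rw [reassoc_of% hu2, reassoc_of% hM, reassoc_of% hch]
  simp only [Category.assoc, Functor.map_comp, Functor.map_inv, IsIso.hom_inv_id_assoc]
  rw [reassoc_of% (hs ((pushCxF f).map h)), reassoc_of% (hs' a), reassoc_of% (hs t), reassoc_of% (hs' α)]
  simp

/-- Transport of a universal property along functors isomorphic to shifts. -/
theorem bijective_conj {F₁ : CochainComplex Y.Modules ℤ ⥤ CochainComplex Y.Modules ℤ}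
    {F₂ : CochainComplex X.Modules ℤ ⥤ CochainComplex X.Modules ℤ} {m : ℤ}
    (σ₁ : F₁ ⋙ DerivedCategory.Q ≅ DerivedCategory.Q ⋙ shiftFunctor (DCoh.D Y) m)
    (σ₂ : F₂ ⋙ DerivedCategory.Q ≅ DerivedCategory.Q ⋙ shiftFunctor (DCoh.D X) m)
    (M : pushCxF f ⋙ F₁ ⟶ F₂ ⋙ pushCxF f)
    {I B : CochainComplex X.Modules ℤ} {R J S : CochainComplex Y.Modules ℤ} [I.IsKInjective]
    (a : R ⟶ (pushCxF f).obj I) (t : R ⟶ J) (α : S ⟶ J)
    [IsIso ((rpushUnit f).app I)] [IsIso ((rpushUnit f).app B)]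
    [IsIso ((rpushUnit f).app (F₂.obj I))] [IsIso ((rpushUnit f).app (F₂.obj B))]
    [IsIso (DerivedCategory.Q.map a)] [IsIso (DerivedCategory.Q.map α)]
    [IsIso (DerivedCategory.Q.map (M.app I))] [IsIso (DerivedCategory.Q.map (M.app B))]
    [IsIso (DerivedCategory.Q.map (F₁.map a))] [IsIso (DerivedCategory.Q.map (F₁.map α))]
    (hc : Function.Bijective fun h : DerivedCategory.Q.obj B ⟶ DerivedCategory.Q.obj I =>
      (DCoh.Rpush f).map h ≫ inv ((rpushUnit f).app I) ≫
        inv (DerivedCategory.Q.map a) ≫ DerivedCategory.Q.map t ≫ inv (DerivedCategory.Q.map α))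
    {A Z : DCoh.D X} {T : DCoh.D Y} (eA : DerivedCategory.Q.obj (F₂.obj B) ≅ A)
    (v : Z ≅ DerivedCategory.Q.obj (F₂.obj I)) (post : DerivedCategory.Q.obj (F₁.obj S) ≅ T)
    (τ : (DCoh.Rpush f).obj Z ⟶ T)
    (hτ : τ = (DCoh.Rpush f).map v.hom ≫ inv ((rpushUnit f).app (F₂.obj I)) ≫
      inv (DerivedCategory.Q.map (M.app I)) ≫ inv (DerivedCategory.Q.map (F₁.map a)) ≫
      DerivedCategory.Q.map (F₁.map t) ≫ inv (DerivedCategory.Q.map (F₁.map α)) ≫ post.hom) :
    Function.Bijective fun g : A ⟶ Z => (DCoh.Rpush f).map g ≫ τ := by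
  let L : (DerivedCategory.Q.obj B ⟶ DerivedCategory.Q.obj I) → (A ⟶ Z) := fun h =>
    eA.inv ≫ σ₂.hom.app B ≫ h⟦m⟧' ≫ σ₂.inv.app I ≫ v.inv
  have hL : Function.Bijective L := by
    refine ⟨fun h h' e => ?_, fun g => ?_⟩
    · simp only [L, cancel_epi, cancel_mono] at e
      exact (shiftFunctor _ m).map_injective e
    · obtain ⟨h, hh⟩ := (shiftFunctor _ m).map_surjective
        (σ₂.inv.app B ≫ eA.hom ≫ g ≫ v.hom ≫ σ₂.hom.app I)
      refine ⟨h, ?_⟩
      simp only [L, hh]
      simp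
  let pre : (DCoh.Rpush f).obj A ⟶ ((DCoh.Rpush f).obj (DerivedCategory.Q.obj B))⟦m⟧ :=
    (DCoh.Rpush f).map eA.inv ≫ inv ((rpushUnit f).app (F₂.obj B)) ≫
      inv (DerivedCategory.Q.map (M.app B)) ≫ σ₁.hom.app ((pushCxF f).obj B) ≫ ((rpushUnit f).app B)⟦m⟧'
  haveI : IsIso pre := by dsimp only [pre]; infer_instance
  let post' : (DerivedCategory.Q.obj S)⟦m⟧ ≅ T := (σ₁.app S).symm ≪≫ post
  let c := fun h : DerivedCategory.Q.obj B ⟶ DerivedCategory.Q.obj I =>
    (DCoh.Rpush f).map h ≫ inv ((rpushUnit f).app I) ≫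
      inv (DerivedCategory.Q.map a) ≫ DerivedCategory.Q.map t ≫ inv (DerivedCategory.Q.map α)
  suffices key : ∀ h, (DCoh.Rpush f).map (L h) ≫ τ = pre ≫ (c h)⟦m⟧' ≫ post'.hom by
    refine (Function.Bijective.of_comp_iff _ hL).1 ⟨fun h h' e => hc.1 ?_, fun y => ?_⟩
    · simp only [Function.comp_apply, key, cancel_epi, cancel_mono] at e
      exact (shiftFunctor _ m).map_injective e
    · obtain ⟨z, hz⟩ := (shiftFunctor _ m).map_surjective (inv pre ≫ y ≫ post'.inv)
      obtain ⟨h, rfl⟩ := hc.2 z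
      refine ⟨h, ?_⟩
      simp only [Function.comp_apply, key, c, hz]
      simp
  intro h
  obtain ⟨h₀, rfl⟩ := exists_Q_map h
  have e₂ : σ₂.hom.app B ≫ (DerivedCategory.Q.map h₀)⟦m⟧' ≫ σ₂.inv.app I = DerivedCategory.Q.map (F₂.map h₀) := by
    have := σ₂.hom.naturality h₀
    simp only [Functor.comp_map] at this
    rw [← reassoc_of% this, Iso.hom_inv_id_app]
    exact Category.comp_id _
  have hLh : (DCoh.Rpush f).map (L (DerivedCategory.Q.map h₀)) ≫ (DCoh.Rpush f).map v.hom =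
      (DCoh.Rpush f).map eA.inv ≫ (DCoh.Rpush f).map (DerivedCategory.Q.map (F₂.map h₀)) := by
    rw [← Functor.map_comp, ← Functor.map_comp, ← e₂]
    refine congrArg (DCoh.Rpush f).map ?_
    simp [L]
  rw [hτ, reassoc_of% hLh]
  have key := congrArg ((DCoh.Rpush f).map eA.inv ≫ · ≫ post.hom) (push_conj_key f σ₁ M a t α h₀)
  simp only [Category.assoc] at key ⊢
  refine key.trans ?_
  simp [pre, post', c]

/-- `O_Y[n]` as a complex. -/
noncomputable abbrev unitS (Y : Scheme.{u}) (n : ℤ) : CochainComplex Y.Modules ℤ :=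
  (HomologicalComplex.single Y.Modules (ComplexShape.up ℤ) n).obj (Coh.structureModule Y)

/-- `- ⊗ O[-n]` on complexes. -/
noncomputable abbrev T1 (Y : Scheme.{u}) (n : ℤ) : CochainComplex Y.Modules ℤ ⥤ CochainComplex Y.Modules ℤ :=
  DCoh.tensorCx.flip.obj (unitS Y n)

/-- `- ⊗ f^* O[-n]` on complexes. -/
noncomputable abbrev T2 (n : ℤ) : CochainComplex X.Modules ℤ ⥤ CochainComplex X.Modules ℤ :=
  DCoh.tensorCx.flip.obj ((pullCx f).obj (unitS Y n))

/-- Tensoring with `O[-n]` is a shift. -/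
noncomputable def e1U (Y : Scheme.{u}) (n : ℤ) :
    T1 Y n ≅ shiftFunctor (CochainComplex Y.Modules ℤ) (-n) :=
  Inner.tensorUnitShiftIso (DCoh.tensorBi (X := Y)) (Coh.structureModule Y) (tensorStructureIso Y) n

/-- The pullback of `O[-n]`. -/
noncomputable def pullUnitS (n : ℤ) : (pullCx f).obj (unitS Y n) ≅ unitS X n :=
  haveI : IsIso (SheafOfModules.pullbackObjUnitToUnit f.toRingCatSheafHom) := inferInstance
  let e : (Scheme.Modules.pullback f).obj (Coh.structureModule Y) ≅ Coh.structureModule X :=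
    asIso (SheafOfModules.pullbackObjUnitToUnit f.toRingCatSheafHom)
  (HomologicalComplex.singleMapHomologicalComplex (Scheme.Modules.pullback f) _ n).app _ ≪≫
    (HomologicalComplex.single _ _ n).mapIso e

/-- Tensoring with `f^* O[-n]` is a shift. -/
noncomputable def e2U (n : ℤ) : T2 f n ≅ shiftFunctor (CochainComplex X.Modules ℤ) (-n) :=
  DCoh.tensorCx.flip.mapIso (pullUnitS f n) ≪≫ e1U X n

/-- Pullback commutes with tensoring by `O[-n]`. -/
noncomputable def betaU (n : ℤ) : T1 Y n ⋙ pullCx f ≅ pullCx f ⋙ T2 f n :=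
  (totalMapNatIso (pullTensorBiIso f) (unitS Y n)).symm

/-- The mate of `betaU`. -/
noncomputable def mateU (n : ℤ) : pushCxF f ⋙ T1 Y n ⟶ T2 f n ⋙ pushCxF f :=
  mateNat (pullPushCxAdj f) (betaU f n)

theorem isIso_mateU (n : ℤ) (K : CochainComplex X.Modules ℤ) : IsIso ((mateU f n).app K) := by
  haveI : (T1 Y n).IsEquivalence := Functor.isEquivalence_of_iso (e1U Y n).symm
  haveI : (T2 f n).IsEquivalence := Functor.isEquivalence_of_iso (e2U f n).symm
  exact isIso_mate (pullPushCxAdj f) (betaU f n) K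

/-- The projection map at `O[-n]`. -/
theorem projCx_unitS (n : ℤ) {R : CochainComplex Y.Modules ℤ} (I : CochainComplex X.Modules ℤ)
    (a : R ⟶ (pushCxF f).obj I) :
    projCx f R I a (unitS Y n) = (T1 Y n).map a ≫ (mateU f n).app I :=
  adjunct_eq_mate (pullPushCxAdj f) (betaU f n) a

end Groth.Agent.ShriekTensor7
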