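import Groth.Agent.KFlatLib.Scheme.RpushTriangle
import Groth.Agent.PerfGen7.BrownDQCoh
import Groth.Prelude.Def_DDual2

/-!
# `Rf_*` on `D_QCoh` and its right adjoint as triangulated functors
-/

set_option linter.style.haveILetI false
set_option backward.isDefEq.respectTransparency false
set_option backward.isDefEq.respectTransparency.types false

universe u

open CategoryTheory CategoryTheory.Limits AlgebraicGeometry Pretriangulated

attribute [local instance] HasDerivedCategory.standard

namespace Groth.Agent.ShriekTensor7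

open Groth.Agent.KFlatLib Groth.Agent.PerfGen7

variable {X Y : Scheme.{u}} (f : X ⟶ Y) [DCoh.HasRpush f]

/-- `Rf_*` is triangulated. -/
theorem exists_commShift_rpush :
    ∃ (_ : (DCoh.Rpush f).CommShift ℤ), (DCoh.Rpush f).IsTriangulated := by
  haveI := TriCat.qh_isLeftAdjoint_of_exists_resolution (A := X.Modules) exists_kInjective_res
  let adjQ := Adjunction.ofIsLeftAdjoint (DerivedCategory.Qh (C := X.Modules))
  let ρ := (DerivedCategory.Qh (C := X.Modules)).rightAdjoint
  let W := HomotopyCategory.quasiIso X.Modules (ComplexShape.up ℤ)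
  haveI : (ρ ⋙ DCoh.pushKh f).IsRightDerivedFunctor
      (Functor.whiskerRight adjQ.unit (DCoh.pushKh f)) W :=
    TriCat.isRightDerivedFunctor_of_adjunction adjQ W (DCoh.pushKh f)
  let e : ρ ⋙ DCoh.pushKh f ≅ DCoh.Rpush f :=
    Functor.rightDerivedUnique _ _ (Functor.whiskerRight adjQ.unit (DCoh.pushKh f))
      ((DCoh.pushKh f).totalRightDerivedUnit DerivedCategory.Qh W) W
  letI := adjQ.rightAdjointCommShift ℤ
  haveI := adjQ.commShift_of_leftAdjoint ℤ
  haveI : ρ.IsTriangulated := adjQ.isTriangulated_rightAdjoint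
  letI := Functor.CommShift.ofIso e ℤ
  haveI := Functor.CommShift.ofIso_compatibility e ℤ
  exact ⟨inferInstance, Functor.isTriangulated_of_iso e⟩

/-- A chosen shift compatibility of `Rf_*`. -/
noncomputable instance commShiftRpush : (DCoh.Rpush f).CommShift ℤ := (exists_commShift_rpush f).choose

instance isTriangulatedRpush : (DCoh.Rpush f).IsTriangulated := (exists_commShift_rpush f).choose_spec

variable (hf : DCoh.RpushPreservesQCoh f)

noncomputable instance commShiftRpushQ : (DCoh.RpushQ f hf).CommShift ℤ :=
  inferInstanceAs (Functor.CommShift (ObjectProperty.lift _ _ _) ℤ)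

instance isTriangulatedRpushQ : (DCoh.RpushQ f hf).IsTriangulated :=
  inferInstanceAs (Functor.IsTriangulated (ObjectProperty.lift _ (ObjectProperty.ι _ ⋙ DCoh.Rpush f) _))

/-- The right adjoint is triangulated. -/
theorem exists_commShift_rightAdjoint {a : DCoh.DQCoh Y ⥤ DCoh.DQCoh X} (adj : DCoh.RpushQ f hf ⊣ a) :
    ∃ (_ : a.CommShift ℤ), a.IsTriangulated := by
  letI := adj.rightAdjointCommShift ℤ
  haveI := adj.commShift_of_leftAdjoint ℤ
  exact ⟨inferInstance, adj.isTriangulated_rightAdjoint⟩

end Groth.Agent.ShriekTensor7
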