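import Groth.Agent.ShriekTensor7.Univ

/-!
# The comparison `Lf^* K ⊗^L a(O) ⟶ a(K)`, invertible at shifts of `O`
-/

set_option linter.style.haveILetI false
set_option backward.isDefEq.respectTransparency false
set_option backward.isDefEq.respectTransparency.types false
set_option maxHeartbeats 1000000

universe u

open CategoryTheory CategoryTheory.Limits AlgebraicGeometry

attribute [local instance] HasDerivedCategory.standard

namespace Groth.Agent.ShriekTensor7

open Groth.Agent.KFlatLib Groth.Agent.PerfGen7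

variable {X Y : Scheme.{u}} (f : X ⟶ Y)

/-- `O[-n]` has quasi-coherent cohomology. -/
theorem isQCohD_unitS (Y : Scheme.{u}) (n : ℤ) : DCoh.IsQCohD (DerivedCategory.Q.obj (unitS Y n)) :=
  (isQCohD_Q_iff _).2 (isQCoh_homology_of_terms _ fun m => by
    by_cases hm : m = n
    · subst hm
      exact isQCoh_of_iso (HomologicalComplex.singleObjXSelf (ComplexShape.up ℤ) m _).symm
        (QCoh.isQCoh_structureModule (X := Y))
    · exact isQCoh_of_isZero (HomologicalComplex.isZero_single_obj_X (ComplexShape.up ℤ) n _ m hm))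

/-- `O[-n]` as an object of `D_QCoh`. -/
noncomputable abbrev unitQ (Y : Scheme.{u}) (n : ℤ) : DCoh.DQCoh Y :=
  ⟨DerivedCategory.Q.obj (unitS Y n), isQCohD_unitS Y n⟩

/-- A natural comparison, invertible at all `O[-n]`. -/
theorem exists_theta [CompactSpace X] [QuasiSeparatedSpace X] [CompactSpace Y] [QuasiSeparatedSpace Y]
    [DCoh.HasRpush f] (hf : DCoh.RpushPreservesQCoh f) {a : DCoh.DQCoh Y ⥤ DCoh.DQCoh X}
    (adj : DCoh.RpushQ f hf ⊣ a) (O : DCoh.DQCoh Y)
    (hO : Nonempty (O.obj ≅ DCoh.inD Y (Coh.structureModule Y))) [DCoh.HasLpull f]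
    (E : CochainComplex X.Modules ℤ) (hE : Nonempty (DCoh.toD X E ≅ (a.obj O).obj))
    [DCoh.HasLTensorCx E] (hEq : DCoh.IsQCohD (DerivedCategory.Q.obj E)) :
    ∃ θ : tensorPullQ f E hEq ⟶ a, ∀ n, IsIso (θ.app (unitQ Y n)) := by
  haveI : QuasiSeparated f := QuasiSeparated.of_quasiSeparatedSpace f
  obtain ⟨eO⟩ := hO
  obtain ⟨eE⟩ := hE
  let S := degZero (Coh.structureModule Y)
  let eS : O.obj ≅ DerivedCategory.Q.obj S :=
    eO ≪≫ (DerivedCategory.singleFunctorIsoCompQ Y.Modules 0).app _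
  obtain ⟨I, _, _, ⟨eI⟩⟩ := exists_kInjective_rep (DerivedCategory.Q.obj E)
  obtain ⟨J, α, hJ, hα, -, -⟩ := TriCat.exists_kInjective_resolution'.{u} S
  haveI := hJ
  haveI := hα
  let R := (kRes Y).obj ((pushCxF f).obj I)
  let a₀ : R ⟶ (pushCxF f).obj I := (flatCover Y).ψ.app _
  haveI : QuasiIso a₀ := (flatCover Y).quasiIso_ψ _
  have hR : DCoh.IsKFlat R := isKFlat_kRes _
  haveI := isIso_rpushUnit_of_kInjective f I
  haveI := isIso_Q_map a₀ inferInstance
  haveI := isIso_Q_map α inferInstance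
  let e : DerivedCategory.Q.obj I ≅ (a.obj O).obj := eI.symm ≪≫ eE
  let φ : (DCoh.Rpush f).obj (DerivedCategory.Q.obj I) ⟶ DerivedCategory.Q.obj S :=
    (DCoh.Rpush f).map e.hom ≫ (adj.counit.app O).hom ≫ eS.hom
  obtain ⟨t, ht⟩ := exists_Q_map
    (DerivedCategory.Q.map a₀ ≫ (rpushUnit f).app I ≫ φ ≫ DerivedCategory.Q.map α)
  have hc : ∀ (B : CochainComplex X.Modules ℤ), B.IsKInjective → DCoh.IsQCohD (DerivedCategory.Q.obj B) →
      Function.Bijective fun h : DerivedCategory.Q.obj B ⟶ DerivedCategory.Q.obj I =>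
        (DCoh.Rpush f).map h ≫ inv ((rpushUnit f).app I) ≫
          inv (DerivedCategory.Q.map a₀) ≫ DerivedCategory.Q.map t ≫ inv (DerivedCategory.Q.map α) := by
    intro B _ hB
    let B' : DCoh.DQCoh X := ⟨DerivedCategory.Q.obj B, hB⟩
    have heq : ∀ h : DerivedCategory.Q.obj B ⟶ DerivedCategory.Q.obj I,
        (DCoh.Rpush f).map h ≫ inv ((rpushUnit f).app I) ≫ inv (DerivedCategory.Q.map a₀) ≫
          DerivedCategory.Q.map t ≫ inv (DerivedCategory.Q.map α) =
        ((adj.homEquiv B' O).symm (ObjectProperty.homMk (h ≫ e.hom))).hom ≫ eS.hom := fun h => by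
      rw [Adjunction.homEquiv_counit, ht]
      simp [φ]
    simp only [heq]
    refine ⟨fun h h' hh => ?_, fun y => ?_⟩
    · have h1 := (adj.homEquiv B' O).symm.injective (ObjectProperty.hom_ext _ ((cancel_mono eS.hom).1 hh))
      exact (cancel_mono e.hom).1 (congrArg (fun t => t.hom) h1)
    · refine ⟨(adj.homEquiv B' O (ObjectProperty.homMk (y ≫ eS.inv))).hom ≫ e.inv, ?_⟩
      simp only [Category.assoc, Iso.inv_hom_id, Category.comp_id]
      rw [show (ObjectProperty.homMk ((adj.homEquiv B' O (ObjectProperty.homMk (y ≫ eS.inv))).hom) :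
        B' ⟶ a.obj O) = adj.homEquiv B' O (ObjectProperty.homMk (y ≫ eS.inv)) from rfl,
        Equiv.symm_apply_apply]
      simp
  obtain ⟨eH⟩ := nonempty_projH_iso_ltensor f I E eI.symm
  let G := tensorPullQ f E hEq
  let π : ObjectProperty.ι (DCoh.IsQCohD (X := Y)) ⋙ projF R ⟶
      ObjectProperty.ι _ ⋙ projH f I ⋙ DCoh.Rpush f := Functor.whiskerLeft _ (projθ f I a₀)
  haveI hπ : ∀ K, IsIso (π.app K) := fun K => by
    let eP := DerivedCategory.Q.objObjPreimageIso K.obj
    haveI := isIso_projθ f I a₀ hR (isQCohD_of_iso eI hEq) (DerivedCategory.Q.objPreimage K.obj)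
      (isQCohD_of_iso eP.symm K.property)
    exact (NatTrans.isIso_app_iff_of_iso (projθ f I a₀) eP).1 inferInstance
  haveI := NatIso.isIso_of_isIso_app π
  let η : G ⋙ DCoh.RpushQ f hf ⋙ ObjectProperty.ι _ ≅ ObjectProperty.ι _ ⋙ projF R :=
    Functor.isoWhiskerLeft (ObjectProperty.ι _) (Functor.isoWhiskerRight eH.symm (DCoh.Rpush f)) ≪≫ (asIso π).symm
  let τ : G ⋙ DCoh.RpushQ f hf ⟶ 𝟭 (DCoh.DQCoh Y) :=
    { app := fun K => ObjectProperty.homMk (η.hom.app K ≫ (chi α t).app K.obj)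
      naturality := fun K L g => ObjectProperty.hom_ext _ (by
        show (DCoh.Rpush f).map (G.map g).hom ≫ η.hom.app L ≫ (chi α t).app L.obj =
          (η.hom.app K ≫ (chi α t).app K.obj) ≫ g.hom
        rw [← Category.assoc]
        erw [η.hom.naturality g]
        rw [Category.assoc, Category.assoc]
        exact congrArg (_ ≫ ·) ((chi α t).naturality g.hom)) }
  refine ⟨{ app := fun K => adj.homEquiv (G.obj K) K (τ.app K)
            naturality := fun K L g => ?_ }, fun n => ?_⟩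
  · rw [← adj.homEquiv_naturality_left, ← adj.homEquiv_naturality_right]
    exact congrArg _ (τ.naturality g)
  let P := unitQ Y n
  haveI hP : IsIso ((projθ f I a₀).app (DerivedCategory.Q.obj (unitS Y n))) := hπ P
  show IsIso (adj.homEquiv (G.obj P) P (τ.app P))
  rw [isIso_iff_yoneda_map_bijective]
  intro A
  have hb := bijective_comp_chi f α I a₀ t hc n A.obj A.property
  let u : (G.obj P).obj ≅ (projH f I).obj (DerivedCategory.Q.obj (unitS Y n)) := eH.symm.app P.obj
  let κ : (A ⟶ G.obj P) → ((DCoh.Rpush f).obj A.obj ⟶ P.obj) := fun g =>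
    (DCoh.Rpush f).map (g.hom ≫ u.hom) ≫ inv ((projθ f I a₀).app (DerivedCategory.Q.obj (unitS Y n))) ≫
        (chi α t).app (DerivedCategory.Q.obj (unitS Y n))
  have hκ : Function.Bijective κ := by
    refine ⟨fun g g' hh => ObjectProperty.hom_ext _ ((cancel_mono u.hom).1 (hb.1 hh)), fun y => ?_⟩
    obtain ⟨g, hg⟩ := hb.2 y
    exact ⟨ObjectProperty.homMk (g ≫ u.inv), by simpa [κ] using hg⟩
  have key : ∀ g : A ⟶ G.obj P, g ≫ adj.homEquiv (G.obj P) P (τ.app P) =
      adj.homEquiv A P (ObjectProperty.homMk (κ g)) := fun g => by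
    rw [← adj.homEquiv_naturality_left]
    refine congrArg _ (ObjectProperty.hom_ext _ ?_)
    show (DCoh.Rpush f).map g.hom ≫ η.hom.app P ≫ (chi α t).app P.obj = κ g
    simp [κ, η, u, π, P]
  refine ⟨fun g g' hh => ?_, fun y => ?_⟩
  · simp only [key] at hh
    exact hκ.1 (congrArg (fun t => t.hom) ((adj.homEquiv A P).injective hh))
  · obtain ⟨g, hg⟩ := hκ.2 ((adj.homEquiv A P).symm y).hom
    exact ⟨g, (key g).trans (by rw [hg]; exact (adj.homEquiv A P).apply_symm_apply y)⟩

end Groth.Agent.ShriekTensor7
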