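import Groth.Agent.ShriekTensor7.Local

/-!
# `a(K) ≅ Lf^* K ⊗^L a(O)` when `a` commutes with coproducts
-/

set_option linter.style.haveILetI false
set_option backward.isDefEq.respectTransparency false
set_option backward.isDefEq.respectTransparency.types false
set_option maxHeartbeats 1000000

universe u

open CategoryTheory CategoryTheory.Limits AlgebraicGeometry Pretriangulated

attribute [local instance] HasDerivedCategory.standard

namespace Groth.Agent.ShriekTensor7

open Groth.Agent.KFlatLib Groth.Agent.PerfGen7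

/-- Invertibility over an open passes to smaller opens. -/
theorem isIso_rho_of_range {X U V : Scheme.{u}} (j : U ⟶ X) [IsOpenImmersion j] (k : V ⟶ X)
    [IsOpenImmersion k] (h : Set.range k.base ⊆ Set.range j.base) {A B : DCoh.D X} (φ : A ⟶ B)
    (hφ : IsIso ((rho j).map φ)) : IsIso ((rho k).map φ) := by
  obtain ⟨C, g, d, hT⟩ := distinguished_cocone_triangle φ
  have hC : IsZero ((rho j).obj C) :=
    (Triangle.isZero₃_iff_isIso₁ _ ((rho j).map_distinguished _ hT)).2 hφ
  have h3 : IsZero ((rho k).obj C) :=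
    (isZero_rho_iff k C).2 (((isZero_rho_iff j C).1 hC).mono (Set.compl_subset_compl.2 h))
  exact (Triangle.isZero₃_iff_isIso₁ _ ((rho k).map_distinguished _ hT)).1 h3

/-- Isomorphisms are detected on opens covering the scheme. -/
theorem isIso_of_rho {X : Scheme.{u}} {A B : DCoh.D X} (φ : A ⟶ B)
    (h : ∀ x : X, ∃ U : X.Opens, x ∈ U ∧ IsIso ((rho U.ι).map φ)) : IsIso φ := by
  obtain ⟨C, g, d, hT⟩ := distinguished_cocone_triangle φ
  refine (Triangle.isZero₃_iff_isIso₁ _ hT).1 (isZero_of_supp_empty fun i x hx => ?_)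
  obtain ⟨U, hxU, hU⟩ := h x
  have hC : IsZero ((rho U.ι).obj C) :=
    (Triangle.isZero₃_iff_isIso₁ _ ((rho U.ι).map_distinguished _ hT)).2 hU
  exact ((isZero_rho_iff U.ι C).1 hC i hx) (by rw [Scheme.Opens.range_ι]; exact hxU)

/-- Colimit cofans transport along isomorphisms. -/
noncomputable def isColimitCofanOfIso {C : Type*} [Category C] {J : Type*} {F G : J → C} {S T : C}
    {ι : ∀ j, F j ⟶ S} {κ : ∀ j, G j ⟶ T} (hc : IsColimit (Cofan.mk S ι)) (e : ∀ j, F j ≅ G j)
    (s : S ≅ T) (h : ∀ j, ι j ≫ s.hom = (e j).hom ≫ κ j) : IsColimit (Cofan.mk T κ) :=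
  Cofan.IsColimit.mk _ (fun t => s.inv ≫ Cofan.IsColimit.desc hc fun j => (e j).hom ≫ t.inj j)
    (fun t j => by
      show κ j ≫ s.inv ≫ _ = t.inj j
      rw [← cancel_epi (e j).hom, ← reassoc_of% (h j), Iso.hom_inv_id_assoc]
      exact Cofan.IsColimit.fac hc _ _)
    fun t m hm => by
      rw [Iso.eq_inv_comp]
      refine Cofan.IsColimit.hom_ext hc _ _ fun j => ?_
      rw [Cofan.IsColimit.fac]
      show ι j ≫ s.hom ≫ m = _
      rw [reassoc_of% (h j)]
      exact congrArg _ (hm j)

/-- Shifts of the unit. -/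
noncomputable def unitQShiftIso (Y : Scheme.{u}) (n m : ℤ) :
    (unitQ Y n)⟦m⟧ ≅ unitQ Y (n - m) :=
  (ObjectProperty.ι (DCoh.IsQCohD (X := Y))).preimageIso
    (((ObjectProperty.ι (DCoh.IsQCohD (X := Y))).commShiftIso m).app _ ≪≫
      ((DerivedCategory.Q.commShiftIso m).app _).symm ≪≫ DerivedCategory.Q.mapIso
        (((CochainComplex.singleFunctors Y.Modules).shiftIso m (n - m) n (by omega)).app _))

variable {X Y : Scheme.{u}} [CompactSpace Y] [QuasiSeparatedSpace Y] (f : X ⟶ Y)
  [QuasiCompact f] [QuasiSeparated f] [DCoh.HasRpush f] (hf : DCoh.RpushPreservesQCoh f)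
  (I : CochainComplex X.Modules ℤ) (a : DCoh.DQCoh Y ⥤ DCoh.DQCoh X)
  (adj : DCoh.RpushQ f hf ⊣ a)
  (η : ObjectProperty.ι (DCoh.IsQCohD (X := Y)) ⋙ projH f I ⟶ a ⋙ ObjectProperty.ι _)
  (hcop : ∀ J : Type u, PreservesColimitsOfShape (Discrete J) a)
  (hgen : ShriekSupp7.RpushGen f) (hη : ∀ n, IsIso (η.app (unitQ Y n)))

include hη in
omit [CompactSpace Y] [QuasiSeparatedSpace Y] [QuasiCompact f] [QuasiSeparated f] [DCoh.HasRpush f] in
theorem cls_unitQ (W : Y.Opens) (n : ℤ) : Cls f I a η W (unitQ Y n) := fun m => by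
  haveI := hη (n - m)
  haveI : IsIso (η.app ((unitQ Y n)⟦m⟧)) :=
    (NatTrans.isIso_app_iff_of_iso η (unitQShiftIso Y n m)).2 inferInstance
  infer_instance

include hη hgen hcop adj in
/-- Over an affine open, the comparison is invertible everywhere. -/
theorem cls_of_isAffineOpen [a.CommShift ℤ] [a.IsTriangulated] {W : Y.Opens} (hW : IsAffineOpen W)
    (K : DCoh.DQCoh Y) : Cls f I a η W K := by
  let j := hW.fromSpec
  haveI : CompactSpace (Spec Γ(Y, W)) := inferInstance
  haveI : QuasiCompact j := by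
    haveI : CompactSpace (W : Y.Opens) := isCompact_iff_compactSpace.1 hW.isCompact
    haveI := ShriekSupp7.quasiCompact_ι (X := Y) W
    rw [show j = hW.isoSpec.inv ≫ W.ι from hW.isoSpec_inv_ι.symm]
    infer_instance
  haveI : QuasiSeparated j := inferInstance
  haveI := hasRpush_scheme j
  have hq : ∀ M : DerivedCategory (ModuleCat.{u} Γ(Y, W)),
      DCoh.IsQCohD ((DCoh.tildeD Γ(Y, W) ⋙ DCoh.Rpush j).obj M) := fun M =>
    KFlatLib.isQCohD_rpush j (isQCohD_tildeD Γ(Y, W) M)
  let L : DerivedCategory (ModuleCat.{u} Γ(Y, W)) ⥤ DCoh.DQCoh Y :=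
    ObjectProperty.lift _ (DCoh.tildeD Γ(Y, W) ⋙ DCoh.Rpush j) hq
  letI : L.CommShift ℤ := inferInstanceAs (Functor.CommShift (ObjectProperty.lift _ _ _) ℤ)
  haveI : L.IsTriangulated :=
    inferInstanceAs (Functor.IsTriangulated (ObjectProperty.lift _ (DCoh.tildeD Γ(Y, W) ⋙ DCoh.Rpush j) hq))
  have hWr : Set.range W.ι.base ⊆ Set.range j.base := by
    rw [Scheme.Opens.range_ι, IsAffineOpen.range_fromSpec]
  let tC := (tilde.functor Γ(Y, W)).mapHomologicalComplex (ComplexShape.up ℤ)
  let eQ : DerivedCategory.Q ⋙ DCoh.tildeD Γ(Y, W) ≅ tC ⋙ DerivedCategory.Q :=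
    (tilde.functor Γ(Y, W)).mapDerivedCategoryFactors
  let ιY := ObjectProperty.ι (DCoh.IsQCohD (X := Y))
  let Pr : ObjectProperty (DerivedCategory (ModuleCat.{u} Γ(Y, W))) :=
    fun M => Cls f I a η W (L.obj M)
  haveI : Pr.IsClosedUnderIsomorphisms := ⟨fun e h => cls_of_iso f I a η W (L.mapIso e) h⟩
  have hall : ∀ M, Pr M := fun M => by
    refine derived_induction Pr
      (fun T hT h₁ h₂ => cls_obj₃ f I a η W (L.mapTriangle.obj T) (L.map_distinguished T hT) h₁ h₂)
      (fun J K hK => ?_) (fun n => ?_) M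
    · intro m
      haveI : HasColimitsOfShape (Discrete J) (DCoh.D Y) := TriCat.hasColimitsOfShape_derivedCategory
      haveI : HasColimitsOfShape (Discrete J) (DCoh.D (Spec Γ(Y, W))) :=
        TriCat.hasColimitsOfShape_derivedCategory
      haveI : PreservesColimitsOfShape (Discrete J) tC := by
        haveI : (tilde.functor Γ(Y, W)).IsLeftAdjoint := inferInstance
        exact ⟨fun {K} => ⟨fun {c} hc => ⟨HomologicalComplex.isColimitOfEval _ _ fun i =>
          isColimitOfPreserves (HomologicalComplex.eval _ (ComplexShape.up ℤ) i ⋙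
            tilde.functor Γ(Y, W)) hc⟩⟩⟩
      haveI := KFlatLib.preservesColimit_Q fun k => tC.obj (K k)
      haveI : PreservesColimit (Discrete.functor K ⋙ tC) DerivedCategory.Q :=
        preservesColimit_of_iso_diagram _
          (Discrete.natIso fun _ => Iso.refl _ :
            (Discrete.functor fun k => tC.obj (K k)) ≅ Discrete.functor K ⋙ tC)
      haveI : PreservesColimit (Discrete.functor K) (DerivedCategory.Q ⋙ DCoh.tildeD Γ(Y, W)) :=
        preservesColimit_of_natIso _ eQ.symm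
      let C : J → DCoh.D (Spec Γ(Y, W)) := fun k =>
        (DCoh.tildeD Γ(Y, W)).obj (DerivedCategory.Q.obj (K k))
      let hT : IsColimit (Cofan.mk ((DCoh.tildeD Γ(Y, W)).obj (DerivedCategory.Q.obj (∐ K)))
          fun k => (DCoh.tildeD Γ(Y, W)).map (DerivedCategory.Q.map (Sigma.ι K k))) :=
        isColimitCofanMkObjOfIsColimit (DerivedCategory.Q ⋙ DCoh.tildeD Γ(Y, W)) K _
          (coproductIsCoproduct K)
      haveI : IsIso (sigmaComparison (DCoh.Rpush j) C) :=
        isIso_sigmaDesc_rpush j C fun k => isQCohD_tildeD _ _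
      haveI : PreservesColimit (Discrete.functor C) (DCoh.Rpush j) :=
        PreservesCoproduct.of_iso_comparison _ _
      let hR := isColimitCofanMkObjOfIsColimit (DCoh.Rpush j) C _ hT
      refine cls_sigma f I a η W hcop (fun k => (L.obj (DerivedCategory.Q.obj (K k)))⟦m⟧)
        (fun k => (L.map (DerivedCategory.Q.map (Sigma.ι K k)))⟦m⟧')
        ⟨isColimitCofanOfIso (isColimitCofanMkObjOfIsColimit (shiftFunctor (DCoh.D Y) m) _ _ hR)
          (fun k => ((ιY.commShiftIso m).app (L.obj (DerivedCategory.Q.obj (K k)))).symm)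
          (((ιY.commShiftIso m).app (L.obj (DerivedCategory.Q.obj (∐ K)))).symm)
          fun k => (ιY.commShiftIso m).inv.naturality (L.map (DerivedCategory.Q.map (Sigma.ι K k)))⟩
        fun k => cls_shift f I a η W (hK k) m
    · let O := Coh.structureModule Y
      let F := Scheme.Modules.restrictFunctor j
      let single := fun (S : Scheme.{u}) =>
        HomologicalComplex.single S.Modules (ComplexShape.up ℤ) n
      let e : (DCoh.tildeD Γ(Y, W)).obj (DerivedCategory.Q.obj
          ((HomologicalComplex.single (ModuleCat.{u} Γ(Y, W)) (ComplexShape.up ℤ) n).obj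
            (ModuleCat.of Γ(Y, W) Γ(Y, W)))) ≅ (rho j).obj (DerivedCategory.Q.obj (unitS Y n)) :=
        eQ.app _ ≪≫ DerivedCategory.Q.mapIso
          ((HomologicalComplex.singleMapHomologicalComplex (tilde.functor Γ(Y, W)) _ n).app _ ≪≫
            (HomologicalComplex.single _ _ n).mapIso (tildeSelf ≪≫ (restrictStructureIso j).symm) ≪≫
            ((HomologicalComplex.singleMapHomologicalComplex F _ n).app O).symm) ≪≫
          ((rhoQ j).app (unitS Y n)).symm
      let φ : unitQ Y n ⟶ L.obj _ :=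
        ObjectProperty.homMk ((adjR j).unit.app (DerivedCategory.Q.obj (unitS Y n)) ≫
          (DCoh.Rpush j).map e.inv)
      have hφ : IsIso ((rho j).map φ.hom) := by
        show IsIso ((rho j).map ((adjR j).unit.app (DerivedCategory.Q.obj (unitS Y n)) ≫
          (DCoh.Rpush j).map e.inv))
        rw [Functor.map_comp]
        infer_instance
      exact (cls_iff f I a η W hf adj hgen φ (isIso_rho_of_range j W.ι hWr _ hφ)).1
        (cls_unitQ f I a η hη W n)
  obtain ⟨M, ⟨eM⟩⟩ := exists_tildeD_iso (KFlatLib.isQCohD_rho j K.property)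
  let φ : K ⟶ L.obj M :=
    ObjectProperty.homMk ((adjR j).unit.app K.obj ≫ (DCoh.Rpush j).map eM.inv)
  have hφ : IsIso ((rho j).map φ.hom) := by
    show IsIso ((rho j).map ((adjR j).unit.app K.obj ≫ (DCoh.Rpush j).map eM.inv))
    rw [Functor.map_comp]
    infer_instance
  exact (cls_iff f I a η W hf adj hgen φ (isIso_rho_of_range j W.ι hWr _ hφ)).2 (hall M)

include hη hgen hcop adj in
/-- The comparison is invertible. -/
theorem isIso_eta [a.CommShift ℤ] [a.IsTriangulated] (K : DCoh.DQCoh Y) : IsIso (η.app K) := by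
  refine isIso_of_rho _ fun x => ?_
  obtain ⟨_, ⟨W, hW, rfl⟩, hxW, -⟩ :=
    Y.isBasis_affineOpens.exists_subset_of_mem_open (Set.mem_univ (f.base x)) isOpen_univ
  refine ⟨f ⁻¹ᵁ W, hxW, ?_⟩
  exact (NatTrans.isIso_app_iff_of_iso (Functor.whiskerRight η (rho (kIm f W)))
    ((shiftFunctorZero (DCoh.DQCoh Y) ℤ).app K)).1
      (cls_of_isAffineOpen f hf I a adj η hcop hgen hη hW K 0)

end Groth.Agent.ShriekTensor7
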