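import Groth.Agent.ShriekTensor7.Exists
import Groth.Agent.ShriekTensor7.Triangulated
import Groth.Agent.ShriekSupp7.Cop
import Groth.Agent.KFlatLib.Scheme.ProjFormula

/-!
# The comparison `Lf^* K ⊗^L a(O) ⟶ a(K)` is invertible
-/

set_option linter.style.haveILetI false
set_option backward.isDefEq.respectTransparency false
set_option backward.isDefEq.respectTransparency.types false
set_option maxHeartbeats 800000

universe u

open CategoryTheory CategoryTheory.Limits AlgebraicGeometry Pretriangulated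

attribute [local instance] HasDerivedCategory.standard

namespace Groth.Agent.ShriekTensor7

open Groth.Agent.KFlatLib Groth.Agent.PerfGen7

variable {X Y : Scheme.{u}} (f : X ⟶ Y) (I : CochainComplex X.Modules ℤ)
  (a : DCoh.DQCoh Y ⥤ DCoh.DQCoh X)
  (η : ObjectProperty.ι (DCoh.IsQCohD (X := Y)) ⋙ projH f I ⟶ a ⋙ ObjectProperty.ι _)
  (W : Y.Opens)

/-- The comparison is invertible over `W`, at all shifts. -/
def Cls (K : DCoh.DQCoh Y) : Prop := ∀ n : ℤ, IsIso ((rho (kIm f W)).map (η.app (K⟦n⟧)))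

theorem cls_of_iso {K L : DCoh.DQCoh Y} (e : K ≅ L) (h : Cls f I a η W K) : Cls f I a η W L := fun n =>
  (NatTrans.isIso_app_iff_of_iso (Functor.whiskerRight η (rho (kIm f W)))
    ((shiftFunctor (DCoh.DQCoh Y) n).mapIso e)).1 (h n)

theorem cls_shift {K : DCoh.DQCoh Y} (h : Cls f I a η W K) (m : ℤ) : Cls f I a η W (K⟦m⟧) := fun n =>
  (NatTrans.isIso_app_iff_of_iso (Functor.whiskerRight η (rho (kIm f W)))
    ((shiftFunctorAdd (DCoh.DQCoh Y) m n).app K)).1 (h (m + n))

theorem cls_obj₃ [DCoh.HasRpush f] [a.CommShift ℤ] [a.IsTriangulated] (T : Triangle (DCoh.DQCoh Y)) (hT : T ∈ distTriang _)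
    (h₁ : Cls f I a η W T.obj₁) (h₂ : Cls f I a η W T.obj₂) : Cls f I a η W T.obj₃ := by
  let H := fun i => DerivedCategory.homologyFunctor (f ⁻¹ᵁ W).toScheme.Modules i
  let Φ := fun i => (ObjectProperty.ι (DCoh.IsQCohD (X := Y)) ⋙ projH f I) ⋙ rho (kIm f W) ⋙ H i
  let Ψ := fun i => (a ⋙ ObjectProperty.ι _) ⋙ rho (kIm f W) ⋙ H i
  haveI : ∀ i, (Φ i).IsHomological := fun i => by
    haveI : (projH f I ⋙ rho (kIm f W) ⋙ H i).IsHomological :=
      isHomological_kLift_comp (kRespects_pullTensor f I) (splitting_pullTensor f I) _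
    exact inferInstanceAs (ObjectProperty.ι (DCoh.IsQCohD (X := Y)) ⋙ (projH f I ⋙ rho (kIm f W) ⋙ H i)).IsHomological
  haveI : ∀ i, (Ψ i).IsHomological := fun i =>
    inferInstanceAs ((a ⋙ ObjectProperty.ι _) ⋙ (rho (kIm f W) ⋙ H i)).IsHomological
  intro n
  refine (DerivedCategory.isIso_iff _ _).2 fun i => ?_
  exact isIso_app_shift_obj₃ (Φ := Φ i) (Ψ := Ψ i)
    (Functor.whiskerRight η (rho (kIm f W) ⋙ H i)) T hT
    (fun m => (DerivedCategory.isIso_iff _ _).1 (h₁ m) i)
    (fun m => (DerivedCategory.isIso_iff _ _).1 (h₂ m) i) n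

/-- Morphisms invertible over `W`. -/
theorem cls_iff [CompactSpace Y] [QuasiSeparatedSpace Y] [QuasiCompact f] [QuasiSeparated f]
    [DCoh.HasRpush f] (hf : DCoh.RpushPreservesQCoh f) (adj : DCoh.RpushQ f hf ⊣ a)
    [a.CommShift ℤ] [a.IsTriangulated] (hgen : ShriekSupp7.RpushGen f)
    {A B : DCoh.DQCoh Y} (φ : A ⟶ B) (hφ : IsIso ((rho W.ι).map φ.hom)) :
    Cls f I a η W A ↔ Cls f I a η W B := by
  have hWr : (Set.range W.ι.base)ᶜ = ((W : Set Y)ᶜ) := by rw [Scheme.Opens.range_ι]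
  have hUr : (Set.range (kIm f W).base)ᶜ = ((f ⁻¹ᵁ W : Set X)ᶜ) := by rw [Scheme.Opens.range_ι]
  have key : ∀ {A B : DCoh.DQCoh Y} (φ : A ⟶ B), IsIso ((rho W.ι).map φ.hom) →
      IsIso ((rho (kIm f W)).map ((projH f I).map φ.hom)) ∧ IsIso ((rho (kIm f W)).map (a.map φ).hom) := by
    intro A B φ hφ
    refine ⟨(isIso_restrictD_projFH f I W
      (isKFlat_kRes (HomologicalComplex.zero : CochainComplex Y.Modules ℤ)) φ.hom hφ).2, ?_⟩
    obtain ⟨C, g, d, hT⟩ := distinguished_cocone_triangle φ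
    have hT' : (ObjectProperty.ι _).mapTriangle.obj (Triangle.mk φ g d) ∈ distTriang (DCoh.D Y) :=
      (ObjectProperty.ι _).map_distinguished _ hT
    have hC : IsZero ((rho W.ι).obj C.obj) :=
      (Triangle.isZero₃_iff_isIso₁ _ ((rho W.ι).map_distinguished _ hT')).2 hφ
    have haC : Supp (a.obj C).obj ((f ⁻¹ᵁ W : Set X)ᶜ) :=
      ShriekSupp7.supp_rightAdjoint_gen f hf adj hgen W C (hWr ▸ (isZero_rho_iff W.ι _).1 hC)
    have h3 : IsZero ((rho (kIm f W)).obj (a.obj C).obj) := (isZero_rho_iff _ _).2 (hUr ▸ haC)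
    exact (Triangle.isZero₃_iff_isIso₁ _ ((rho (kIm f W)).map_distinguished _
      ((ObjectProperty.ι _).map_distinguished _ (a.map_distinguished _ hT)))).1 h3
  refine forall_congr' fun n => ?_
  have hn : IsIso ((rho W.ι).map (φ⟦n⟧').hom) := by
    haveI := hφ
    exact (NatIso.isIso_map_iff ((ObjectProperty.ι _ ⋙ rho W.ι).commShiftIso n) φ).2
      (Functor.map_isIso (shiftFunctor (DCoh.D W.toScheme) n) ((rho W.ι).map φ.hom))
  obtain ⟨h1, h2⟩ := key _ hn
  have w := congrArg (rho (kIm f W)).map (η.naturality (φ⟦n⟧'))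
  rw [Functor.map_comp, Functor.map_comp, Functor.comp_map, Functor.comp_map] at w
  refine Iff.trans ?_ (@isIso_comp_left_iff _ _ _ _ _ _ ((rho (kIm f W)).map (η.app (B⟦n⟧))) h1)
  erw [w]
  exact (@isIso_comp_right_iff _ _ _ _ _ ((rho (kIm f W)).map (η.app (A⟦n⟧))) _ h2).symm

/-- Coproducts. -/
theorem cls_sigma [CompactSpace Y] [QuasiSeparatedSpace Y]
    (hcop : ∀ J : Type u, PreservesColimitsOfShape (Discrete J) a)
    {J : Type u} (K : J → DCoh.DQCoh Y) {S : DCoh.DQCoh Y} (ι : ∀ j, K j ⟶ S)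
    (hS : Nonempty (IsColimit (Cofan.mk S.obj fun j => (ι j).hom)))
    (h : ∀ j, Cls f I a η W (K j)) : IsIso ((rho (kIm f W)).map (η.app S)) := by
  haveI : HasColimitsOfShape (Discrete J) (DCoh.D X) := TriCat.hasColimitsOfShape_derivedCategory
  haveI : HasColimitsOfShape (Discrete J) (DCoh.D Y) := TriCat.hasColimitsOfShape_derivedCategory
  haveI := hcop J
  obtain ⟨hS⟩ := hS
  let ιY := ObjectProperty.ι (DCoh.IsQCohD (X := Y))
  let ιX := ObjectProperty.ι (DCoh.IsQCohD (X := X))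
  have hc : IsColimit (Cofan.mk S ι) :=
    isColimitOfReflects ιY ((isColimitMapCoconeCofanMkEquiv ιY K _).symm hS)
  haveI := preservesColimitsOfShape₂ DCoh.tensorBi (Discrete J) I
  haveI : PreservesColimitsOfShape (Discrete J) (pullCx f) :=
    ⟨fun {K} => ⟨fun {c} hc => ⟨HomologicalComplex.isColimitOfEval _ _ fun n =>
      isColimitOfPreserves (HomologicalComplex.eval Y.Modules (ComplexShape.up ℤ) n ⋙
        Scheme.Modules.pullback f) hc⟩⟩⟩
  haveI := preservesColimit_kLift (kRespects_pullTensor f I) (fun j => (K j).obj)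
  haveI := preservesColimit_restrictD (kIm f W) (fun j => (projH f I).obj (K j).obj)
  haveI := preservesColimit_restrictD (kIm f W) (fun j => (a.obj (K j)).obj)
  let hΦ : IsColimit (Cofan.mk _ fun j => (rho (kIm f W)).map ((projH f I).map (ι j).hom)) :=
    isColimitCofanMkObjOfIsColimit (rho (kIm f W)) _ _ (isColimitCofanMkObjOfIsColimit (projH f I) _ _ hS)
  have ha : IsColimit (Cofan.mk (a.obj S).obj fun j => (a.map (ι j)).hom) := by
    have hq := isColimitCofanMkObjOfIsColimit a K _ hc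
    let A : J → DCoh.D X := fun j => (a.obj (K j)).obj
    let T : DCoh.DQCoh X := ⟨∐ A, KFlatLib.isQCohD_sigma A fun j => (a.obj (K j)).property⟩
    let d : Cofan fun j => a.obj (K j) := Cofan.mk T fun j => ObjectProperty.homMk (Sigma.ι A j)
    have hd : IsColimit d := by
      refine isColimitOfReflects ιX ((isColimitMapCoconeCofanMkEquiv ιX (fun j => a.obj (K j)) _).symm ?_)
      exact coproductIsCoproduct A
    refine IsColimit.ofIsoColimit (coproductIsCoproduct A)
      (Cocone.ext (ιX.mapIso (hd.coconePointUniqueUpToIso hq)) fun j => ?_)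
    exact congrArg (fun t => t.hom) (hd.comp_coconePointUniqueUpToIso_hom hq j)
  let hΨ : IsColimit (Cofan.mk _ fun j => (rho (kIm f W)).map (a.map (ι j)).hom) :=
    isColimitCofanMkObjOfIsColimit (rho (kIm f W)) _ _ ha
  have h0 : ∀ j, IsIso ((rho (kIm f W)).map (η.app (K j))) := fun j =>
    (NatTrans.isIso_app_iff_of_iso (Functor.whiskerRight η (rho (kIm f W)))
      ((shiftFunctorZero (DCoh.DQCoh Y) ℤ).app (K j))).1 (h j 0)
  haveI := h0
  let w := Discrete.natIso (F := Discrete.functor fun j => (rho (kIm f W)).obj ((projH f I).obj (K j).obj))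
    (G := Discrete.functor fun j => (rho (kIm f W)).obj (a.obj (K j)).obj)
    fun j : Discrete J => asIso ((rho (kIm f W)).map (η.app (K j.as)))
  have he : (rho (kIm f W)).map (η.app S) =
      (IsColimit.coconePointsIsoOfNatIso hΦ hΨ w).hom := by
    refine hΦ.hom_ext fun j => ?_
    refine Eq.trans ?_ (IsColimit.comp_coconePointsIsoOfNatIso_hom hΦ hΨ w j).symm
    show (rho (kIm f W)).map ((projH f I).map (ι j.as).hom) ≫ _ =
      (rho (kIm f W)).map (η.app (K j.as)) ≫ (rho (kIm f W)).map (a.map (ι j.as)).hom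
    rw [← Functor.map_comp, ← Functor.map_comp]
    exact congrArg _ (η.naturality (ι j.as))
  rw [he]
  infer_instance

end Groth.Agent.ShriekTensor7
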