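import Groth.Agent.RHomO7.Finite
import Groth.Agent.PerfGen7.UnitDetect
import Groth.Agent.PerfGen7.BrownDQCoh
import Groth.Prelude.Def_DDual2

/-!
# The comparison `Lf^* K ⊗^L a(O) ⟶ a(K)`
-/

set_option linter.style.haveILetI false
set_option backward.isDefEq.respectTransparency false
set_option backward.isDefEq.respectTransparency.types false
set_option maxHeartbeats 1000000

universe u

open CategoryTheory CategoryTheory.Limits AlgebraicGeometry

attribute [local instance] HasDerivedCategory.standard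

namespace Groth.Agent.ShriekTensor7

open Groth.Agent.KFlatLib Groth.Agent.PerfGen7

variable {X Y : Scheme.{u}}

/-- `C ↦ I ⊗^L Lf^* C` is `Lf^* (-) ⊗^L E` when `I` represents `E`. -/
theorem nonempty_projH_iso_ltensor (f : X ⟶ Y) [DCoh.HasLpull f] (I E : CochainComplex X.Modules ℤ)
    [DCoh.HasLTensorCx E] (eI : DerivedCategory.Q.obj I ≅ DerivedCategory.Q.obj E) :
    Nonempty (projH f I ≅ DCoh.Lpull f ⋙ DCoh.LTensorCx E) := by
  let J := (kRes X).obj I
  let b : J ⟶ I := (flatCover X).ψ.app I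
  haveI : QuasiIso b := (flatCover X).quasiIso_ψ I
  haveI := isIso_Q_map b inferInstance
  have hJ : DCoh.IsKFlat J := isKFlat_kRes I
  haveI := hasLTensorCx J
  let σ := symmIso (T := DCoh.tensorBi (X := X)) (tensorBiFlipIso X) J
  let c := (DCoh.tensorCxQ J).totalLeftDerivedCounit DerivedCategory.Q (qisX X)
  haveI : ∀ N, IsIso (c.app N) := isIso_LTensorCx_counit_of_isKFlat_right J hJ
  haveI := NatIso.isIso_of_isIso_app c
  let β : kRes Y ⋙ pullCx f ⋙ DCoh.tensorCx.obj J ⋙ DerivedCategory.Q ⟶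
      kRes Y ⋙ pullCx f ⋙ DCoh.tensorCx.obj I ⋙ DerivedCategory.Q :=
    Functor.whiskerLeft (kRes Y ⋙ pullCx f) (Functor.whiskerRight (DCoh.tensorCx.map b) DerivedCategory.Q)
  haveI : ∀ N, IsIso (β.app N) := fun N => by
    haveI : QuasiIso ((DCoh.tensorCx.map b).app ((pullCx f).obj ((kRes Y).obj N))) :=
      S0949.result _ (isKFlat_pullback f (isKFlat_kRes N)) _
    exact isIso_Q_map _ ‹QuasiIso ((DCoh.tensorCx.map b).app ((pullCx f).obj ((kRes Y).obj N)))›
  haveI := NatIso.isIso_of_isIso_app β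
  obtain ⟨cE⟩ := nonempty_LTensorCx_congr_D (asIso (DerivedCategory.Q.map b) ≪≫ eI)
  obtain ⟨e⟩ : Nonempty (projH f I ≅ DCoh.Lpull f ⋙ DCoh.LTensorCx J) :=
    RHomO7.nonempty_iso_of_Q (kLiftFac (kRespects_pullTensor f I) ≪≫ (asIso β).symm ≪≫
      Functor.isoWhiskerLeft (kRes Y ⋙ pullCx f) (Functor.isoWhiskerRight σ.symm DerivedCategory.Q ≪≫
        (asIso c).symm) ≪≫
      Functor.isoWhiskerRight (lpullResIso f).symm (DCoh.LTensorCx J))
  exact ⟨e ≪≫ Functor.isoWhiskerLeft _ cE⟩

section Chi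

variable (R J : CochainComplex Y.Modules ℤ) (α : degZero (Coh.structureModule Y) ⟶ J) [QuasiIso α]

/-- `O ⊗ C ≅ C`, on complexes. -/
noncomputable def unitTensorIso :
    DCoh.tensorCx.obj (degZero (Coh.structureModule Y)) ≅ 𝟭 (CochainComplex Y.Modules ℤ) :=
  (symmIso (T := DCoh.tensorBi (X := Y)) (tensorBiFlipIso Y) (degZero (Coh.structureModule Y))).symm ≪≫
    singleIso DCoh.tensorBi (Coh.structureModule Y) ≪≫
    NatIso.mapHomologicalComplex (tensorStructureIso Y) (ComplexShape.up ℤ) ≪≫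
    Functor.mapHomologicalComplexIdIso Y.Modules (ComplexShape.up ℤ)

instance isIso_unitMap : IsIso (Functor.whiskerLeft (kRes Y)
    (Functor.whiskerRight (DCoh.tensorCx.map α) DerivedCategory.Q)) := by
  haveI : ∀ N, IsIso ((Functor.whiskerLeft (kRes Y)
      (Functor.whiskerRight (DCoh.tensorCx.map α) DerivedCategory.Q)).app N) := fun N => by
    haveI : QuasiIso ((DCoh.tensorCx.map α).app ((kRes Y).obj N)) := S0949.result _ (isKFlat_kRes N) _
    exact isIso_Q_map _ ‹QuasiIso ((DCoh.tensorCx.map α).app ((kRes Y).obj N))›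
  exact NatIso.isIso_of_isIso_app _

variable {R J}

/-- The map `R ⊗^L C ⟶ C` induced by `t : R ⟶ J`. -/
noncomputable def chi (t : R ⟶ J) : projF R ⟶ 𝟭 (DCoh.D Y) :=
  letI : Localization.Lifting DerivedCategory.Q (qisX Y) (DerivedCategory.Q ⋙ projF R) (projF R) :=
    ⟨Iso.refl _⟩
  Localization.liftNatTrans DerivedCategory.Q (qisX Y) (DerivedCategory.Q ⋙ projF R) DerivedCategory.Q _ _
    ((kLiftFac (kRespects_tensor R)).hom ≫
      Functor.whiskerLeft (kRes Y) (Functor.whiskerRight (DCoh.tensorCx.map t) DerivedCategory.Q) ≫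
      inv (Functor.whiskerLeft (kRes Y) (Functor.whiskerRight (DCoh.tensorCx.map α) DerivedCategory.Q)) ≫
      Functor.whiskerLeft (kRes Y) (Functor.whiskerRight (unitTensorIso).hom DerivedCategory.Q) ≫
      (Functor.isoWhiskerLeft (kRes Y) (Functor.leftUnitor _)).hom ≫ (resQIso Y).hom)

/-- The value of `chi` on a K-flat complex. -/
theorem chi_app_Q {P : CochainComplex Y.Modules ℤ} (hP : DCoh.IsKFlat P) (t : R ⟶ J)
    [IsIso (DerivedCategory.Q.map ((DCoh.tensorCx.map α).app P))] :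
    (chi α t).app (DerivedCategory.Q.obj P) =
      (kLiftε (kRespects_tensor R)).app P ≫ DerivedCategory.Q.map ((DCoh.tensorCx.map t).app P) ≫
        inv (DerivedCategory.Q.map ((DCoh.tensorCx.map α).app P)) ≫
        DerivedCategory.Q.map ((unitTensorIso).hom.app P) := by
  let C := (kRes Y).obj P
  let ψ : C ⟶ P := (flatCover Y).ψ.app P
  have hC : DCoh.IsKFlat C := isKFlat_kRes P
  haveI : QuasiIso ((DCoh.tensorCx.map α).app C) := S0949.result _ hC _
  haveI := isIso_Q_map ((DCoh.tensorCx.map α).app C) inferInstance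
  have h1 : (chi α t).app (DerivedCategory.Q.obj P) =
      (kLiftFac (kRespects_tensor R)).hom.app P ≫ DerivedCategory.Q.map ((DCoh.tensorCx.map t).app C) ≫
        inv (DerivedCategory.Q.map ((DCoh.tensorCx.map α).app C)) ≫
        DerivedCategory.Q.map ((unitTensorIso).hom.app C) ≫ DerivedCategory.Q.map ψ := by
    simp only [chi, Localization.liftNatTrans_app]
    simp [resQIso, C, ψ]
  have hu : DerivedCategory.Q.map ((unitTensorIso (Y := Y)).hom.app C) ≫ DerivedCategory.Q.map ψ =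
      DerivedCategory.Q.map ((DCoh.tensorCx.obj _).map ψ) ≫ DerivedCategory.Q.map ((unitTensorIso).hom.app P) := by
    rw [← Functor.map_comp, ← Functor.map_comp]
    exact congrArg DerivedCategory.Q.map ((unitTensorIso (Y := Y)).hom.naturality ψ).symm
  have hα : inv (DerivedCategory.Q.map ((DCoh.tensorCx.map α).app C)) ≫
      DerivedCategory.Q.map ((DCoh.tensorCx.obj _).map ψ) =
      DerivedCategory.Q.map ((DCoh.tensorCx.obj J).map ψ) ≫ inv (DerivedCategory.Q.map ((DCoh.tensorCx.map α).app P)) := by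
    rw [IsIso.inv_comp_eq, ← Category.assoc, IsIso.eq_comp_inv, ← Functor.map_comp, ← Functor.map_comp]
    exact congrArg DerivedCategory.Q.map ((DCoh.tensorCx.map α).naturality ψ)
  have ht : DerivedCategory.Q.map ((DCoh.tensorCx.map t).app C) ≫ DerivedCategory.Q.map ((DCoh.tensorCx.obj J).map ψ) =
      DerivedCategory.Q.map ((DCoh.tensorCx.obj R).map ψ) ≫ DerivedCategory.Q.map ((DCoh.tensorCx.map t).app P) := by
    rw [← Functor.map_comp, ← Functor.map_comp]
    exact congrArg DerivedCategory.Q.map ((DCoh.tensorCx.map t).naturality ψ).symm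
  rw [h1, hu, reassoc_of% hα, reassoc_of% ht]
  simp only [kLiftε, ψ, C, Category.assoc]

end Chi

variable (f : X ⟶ Y)

/-- `K ↦ Lf^* K ⊗^L E` on `D_QCoh`. -/
noncomputable def tensorPullQ [DCoh.HasLpull f] (E : CochainComplex X.Modules ℤ) [DCoh.HasLTensorCx E]
    (hE : DCoh.IsQCohD (DerivedCategory.Q.obj E)) : DCoh.DQCoh Y ⥤ DCoh.DQCoh X :=
  ObjectProperty.lift _ (ObjectProperty.ι _ ⋙ DCoh.Lpull f ⋙ DCoh.LTensorCx E)
    fun K => isQCohD_ltensor E hE (isQCohD_lpull f K.property)

end Groth.Agent.ShriekTensor7
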