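import Groth.Agent.ShriekTensor7.UnitShift

/-!
# The comparison is invertible at the shifts of `O`
-/

set_option linter.style.haveILetI false
set_option backward.isDefEq.respectTransparency false
set_option backward.isDefEq.respectTransparency.types false
set_option maxHeartbeats 1000000

universe u

open CategoryTheory CategoryTheory.Limits AlgebraicGeometry

attribute [local instance] HasDerivedCategory.standard

namespace Groth.Agent.ShriekTensor7

open Groth.Agent.KFlatLib Groth.Agent.PerfGen7

variable {X Y : Scheme.{u}} (f : X ⟶ Y) [DCoh.HasRpush f]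

/-- Inverses of images of composites. -/
theorem inv_map_comp {C D : Type*} [Category C] [Category D] (F : C ⥤ D) {A B Z : C} (x : A ⟶ B)
    (y : B ⟶ Z) (p : A ⟶ Z) (h : p = x ≫ y) [IsIso (F.map x)] [IsIso (F.map y)] [IsIso (F.map p)] :
    inv (F.map p) = inv (F.map y) ≫ inv (F.map x) := by
  subst h
  refine IsIso.inv_eq_of_hom_inv_id ?_
  simp

/-- The universal property of `τ` at `O[-n]`, from the one at `O`. -/
theorem bijective_comp_chi [CompactSpace X] [QuasiSeparatedSpace X]
    {R J : CochainComplex Y.Modules ℤ} (α : degZero (Coh.structureModule Y) ⟶ J) [QuasiIso α]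
    (I : CochainComplex X.Modules ℤ) [I.IsKInjective]
    (a : R ⟶ (pushCxF f).obj I) [QuasiIso a] (t : R ⟶ J)
    [IsIso ((rpushUnit f).app I)] [IsIso (DerivedCategory.Q.map a)] [IsIso (DerivedCategory.Q.map α)]
    (hc : ∀ (B : CochainComplex X.Modules ℤ), B.IsKInjective → DCoh.IsQCohD (DerivedCategory.Q.obj B) →
      Function.Bijective fun h : DerivedCategory.Q.obj B ⟶ DerivedCategory.Q.obj I =>
        (DCoh.Rpush f).map h ≫ inv ((rpushUnit f).app I) ≫
          inv (DerivedCategory.Q.map a) ≫ DerivedCategory.Q.map t ≫ inv (DerivedCategory.Q.map α))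
    (n : ℤ) (A : DCoh.D X) (hA : DCoh.IsQCohD A)
    [IsIso ((projθ f I a).app (DerivedCategory.Q.obj (unitS Y n)))] :
    Function.Bijective fun g : A ⟶ (projH f I).obj (DerivedCategory.Q.obj (unitS Y n)) =>
      (DCoh.Rpush f).map g ≫ inv ((projθ f I a).app (DerivedCategory.Q.obj (unitS Y n))) ≫
        (chi α t).app (DerivedCategory.Q.obj (unitS Y n)) := by
  let P := unitS Y n
  let F₁ := T1 Y n
  let F₂ := T2 f n
  let e₁ := e1U Y n
  let e₂ := e2U f n
  let M := mateU f n
  haveI : ∀ K, IsIso (M.app K) := isIso_mateU f n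
  have hproj := projCx_unitS f n I a
  let σ₁ := shiftConj F₁ (-n) e₁
  let σ₂ := shiftConj F₂ (-n) e₂
  obtain ⟨B, _, _, ⟨eB⟩⟩ := exists_kInjective_rep (A⟦n⟧)
  have hB : DCoh.IsQCohD (DerivedCategory.Q.obj B) := isQCohD_of_iso eB (isQCohD_shift hA n)
  let eA : DerivedCategory.Q.obj (F₂.obj B) ≅ A :=
    σ₂.app B ≪≫ (shiftFunctor _ (-n)).mapIso eB.symm ≪≫ (shiftEquiv (DCoh.D X) n).unitIso.symm.app A
  haveI : (F₂.obj B).IsKInjective := CochainComplex.isKInjective_of_iso (e₂.app B).symm
  haveI : (F₂.obj I).IsKInjective := CochainComplex.isKInjective_of_iso (e₂.app I).symm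
  have hP : DCoh.IsKFlat P := isKFlat_of_isStrictlyLE P n (isFlat_single n isFlat_structureModule)
  haveI := isIso_kLiftε (kRespects_pullTensor f I) hP
  haveI := isIso_rpushUnit_of_kInjective f B
  haveI := isIso_rpushUnit_of_kInjective f (F₂.obj B)
  haveI hu := isIso_rpushUnit_of_kInjective f (F₂.obj I)
  haveI hu' : IsIso ((rpushUnit f).app ((DCoh.tensorCx.obj I).obj ((pullCx f).obj P))) := hu
  haveI : ∀ {K L : CochainComplex Y.Modules ℤ} (x : K ⟶ L) [IsIso (DerivedCategory.Q.map x)],
      IsIso (DerivedCategory.Q.map (F₁.map x)) := fun x _ =>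
    (NatIso.isIso_map_iff σ₁ x).2 (Functor.map_isIso (shiftFunctor _ (-n)) (DerivedCategory.Q.map x))
  haveI ha : IsIso (DerivedCategory.Q.map (F₁.map a)) := this a
  haveI hα : IsIso (DerivedCategory.Q.map (F₁.map α)) := this α
  haveI hMI : IsIso (DerivedCategory.Q.map (M.app I)) := Functor.map_isIso _ _
  haveI hMB : IsIso (DerivedCategory.Q.map (M.app B)) := Functor.map_isIso _ _
  haveI hα' : IsIso (DerivedCategory.Q.map ((DCoh.tensorCx.map α).app P)) := hα
  haveI hp' : IsIso (DerivedCategory.Q.map (projCx f R I a P)) := by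
    rw [hproj, Functor.map_comp]
    exact IsIso.comp_isIso' ha hMI
  refine bijective_conj f σ₁ σ₂ M a t α (hc B inferInstance hB) eA
    (asIso ((kLiftε (kRespects_pullTensor f I)).app P))
    (DerivedCategory.Q.mapIso ((unitTensorIso (Y := Y)).app P)) _ ?_
  rw [inv_projθ_comp_chi f α I a t hP]
  have hp := inv_map_comp DerivedCategory.Q (F₁.map a) (M.app I) (projCx f R I a P) hproj
  rw [hp, Category.assoc]
  rfl

end Groth.Agent.ShriekTensor7
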